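import Groth.Agent.FittStrict.Basic
import Groth.Agent.FittX.Sheaf
import Groth.Agent.QCoh.DevissageSum
import Groth.Agent.QCoh.Qcqs
import Groth.Agent.LimModLib.FP
import Groth.Agent.ModPairLib.Quot
import Groth.Prelude.Def_CInt

/-!
# Strict transforms of quasi-coherent modules: affine description, Fitting ideals
-/

set_option autoImplicit false
set_option backward.isDefEq.respectTransparency false
set_option backward.isDefEq.respectTransparency.types false
set_option linter.style.haveILetI false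

universe u

open CategoryTheory CategoryTheory.Limits AlgebraicGeometry TopologicalSpace Opposite

namespace Groth.Agent.StrictTr16

open Groth.Agent

variable {X : Scheme.{u}}

/-- `π : P ⟶ G` is an epimorphism killing exactly the sections killed by a power of `E`. -/
def IsTorsionQuot (E : X.IdealSheafData) {P G : X.Modules} (π : P ⟶ G) : Prop :=
  Epi π ∧ ∀ (V : X.affineOpens) (m : P.presheaf.obj (op V.1)),
    π.app V.1 m = 0 ↔ BlowUp.KilledByPowerNear E P V m

variable {E : X.IdealSheafData} {P G : X.Modules} {π : P ⟶ G}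

theorem isQCoh_kernel_of_torsionQuot (hE : BlowUp.IsEffCartierIdeal E) (hP : Coh.IsQCoh P)
    (hπ : IsTorsionQuot E π) : Coh.IsQCoh (kernel π) := by
  refine QCoh.isQCoh_of_sections (fun U hU f s => ?_) fun U hU f t ht => ?_
  · let D := X.basicOpen f
    let y := (kernel.ι π).app D s
    have hy0 : π.app D y = 0 := (congr(($(kernel.condition π)).app D s) : _)
    obtain ⟨n, hn⟩ := (hπ.2 ⟨D, hU.basicOpen f⟩ y).1 hy0
    obtain ⟨m, t, ht⟩ := QCoh.exists_pow_smul_eq_map hP hU f y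
    have hfg : ((E.ideal ⟨U, hU⟩) ^ n).FG :=
      Submodule.FG.pow (ModPairLib.fg_of_isLocPrincipal (ModPairLib.isLocPrincipal_of_isEffCartier hE) ⟨U, hU⟩) n
    obtain ⟨s₀, hs₀⟩ := hfg
    have hg : ∀ g ∈ s₀, ∃ l : ℕ, f ^ l • (g • t) = 0 := by
      intro g hg
      refine QCoh.exists_pow_smul_eq_zero hP hU f _ ?_
      rw [QCoh.map_smul', ht, smul_comm]
      refine (congrArg _ (hn _ ?_)).trans (smul_zero _)
      have h1 : g ∈ (E ^ n).ideal ⟨U, hU⟩ := by
        rw [Scheme.IdealSheafData.ideal_pow]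
        show g ∈ (E.ideal ⟨U, hU⟩) ^ n
        rw [← hs₀]
        exact Submodule.subset_span hg
      have h2 := Ideal.mem_map_of_mem (algebraMap Γ(X, U) Γ(X, X.basicOpen f)) h1
      exact ((E ^ n).map_ideal (U := ⟨D, hU.basicOpen f⟩) (V := ⟨U, hU⟩) (X.basicOpen_le f)).le h2
    choose l hl using hg
    let L := s₀.attach.sup fun g => l g.1 g.2
    have hann : ∀ a ∈ (E ^ n).ideal ⟨U, hU⟩, a • (f ^ L • t) = 0 := by
      intro a ha
      rw [Scheme.IdealSheafData.ideal_pow] at ha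
      change a ∈ (E.ideal ⟨U, hU⟩) ^ n at ha
      rw [← hs₀] at ha
      refine Submodule.span_induction (fun g hg => ?_) (zero_smul _ _)
        (fun a b _ _ ha hb => by rw [add_smul, ha, hb, add_zero])
        (fun c a _ ha => by rw [smul_assoc, ha, smul_zero]) ha
      obtain ⟨c, hc⟩ := le_iff_exists_add.1 (Finset.le_sup (f := fun g : s₀ => l g.1 g.2) (Finset.mem_attach _ ⟨g, hg⟩))
      rw [show L = l g hg + c from hc, pow_add, mul_comm, mul_smul, smul_comm, smul_comm g (f ^ l g hg),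
        hl g hg, smul_zero]
    obtain ⟨w, hw⟩ := QCoh.exists_kernel_lift π U (f ^ L • t) ((hπ.2 ⟨U, hU⟩ _).2 ⟨n, hann⟩)
    refine ⟨L + m, w, QCoh.app_injective (kernel.ι π) D ?_⟩
    rw [QCoh.map_app_comm, hw, QCoh.map_smul', ht, Scheme.Modules.Hom.app_smul, pow_add, mul_smul, map_pow]
  · obtain ⟨n, hn⟩ := QCoh.exists_pow_smul_eq_zero hP hU f ((kernel.ι π).app U t) (by
      rw [← QCoh.map_app_comm, ht, map_zero])
    exact ⟨n, QCoh.app_injective (kernel.ι π) U (by rw [Scheme.Modules.Hom.app_smul, hn, map_zero])⟩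

theorem isQCoh_of_torsionQuot (hE : BlowUp.IsEffCartierIdeal E) (hP : Coh.IsQCoh P)
    (hπ : IsTorsionQuot E π) : Coh.IsQCoh G := by
  haveI := hπ.1
  refine (QCoh.isQCoh_iff_iso ((cokernelIsCokernel (kernel.ι π)).coconePointUniqueUpToIso
    (Abelian.epiIsCokernelOfKernel (KernelFork.ofι (kernel.ι π) (kernel.condition π)) (kernelIsKernel π)))).1 ?_
  exact QCoh.isQCoh_cokernel (isQCoh_kernel_of_torsionQuot hE hP hπ) hP _

/-- A morphism of modules as a linear map of sections. -/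
noncomputable def appLin (π : P ⟶ G) (U : X.Opens) : Γ(P, U) →ₗ[Γ(X, U)] Γ(G, U) where
  toFun := π.app U
  map_add' := map_add (π.app U).hom
  map_smul' r x := π.app_smul r x

theorem appLin_surjective (hE : BlowUp.IsEffCartierIdeal E) (hP : Coh.IsQCoh P)
    (hπ : IsTorsionQuot E π) {U : X.Opens} (hU : IsAffineOpen U) : Function.Surjective (appLin π U) :=
  haveI := hπ.1
  QCoh.app_surjective_of_epi hP (isQCoh_of_torsionQuot hE hP hπ) π hU

theorem isFT_of_torsionQuot (hE : BlowUp.IsEffCartierIdeal E) (hP : Coh.IsQCoh P) (hft : CohB1.IsFT P)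
    (hπ : IsTorsionQuot E π) : CohB1.IsFT G :=
  (QCoh.isFT_iff (isQCoh_of_torsionQuot hE hP hπ)).2 fun U =>
    haveI := QCoh.finite_of_isFT hP hft U.2
    Module.Finite.of_surjective (appLin π U.1) (appLin_surjective hE hP hπ U.2)

theorem ker_appLin (hπ : IsTorsionQuot E π) (V : X.affineOpens) {w : Γ(X, V.1)}
    (hw : E.ideal V = Ideal.span {w}) :
    LinearMap.ker (appLin π V.1) = FlatCA.powTorsion Γ(X, V.1) w Γ(P, V.1) := by
  ext m
  rw [LinearMap.mem_ker, FittStrict.mem_powTorsion]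
  refine (hπ.2 V m).trans ⟨fun ⟨n, hn⟩ => ⟨n, hn _ ?_⟩, fun ⟨n, hn⟩ => ⟨n, fun a ha => ?_⟩⟩
  · rw [Scheme.IdealSheafData.ideal_pow]
    show w ^ n ∈ (E.ideal V) ^ n
    rw [hw, Ideal.span_singleton_pow]
    exact Ideal.mem_span_singleton_self _
  · rw [Scheme.IdealSheafData.ideal_pow] at ha
    change a ∈ (E.ideal V) ^ n at ha
    rw [hw, Ideal.span_singleton_pow, Ideal.mem_span_singleton'] at ha
    obtain ⟨c, rfl⟩ := ha
    rw [mul_smul, hn, smul_zero]

theorem fitting_sections_eq (hE : BlowUp.IsEffCartierIdeal E) (hP : Coh.IsQCoh P) (hft : CohB1.IsFT P)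
    (hπ : IsTorsionQuot E π) (V : X.affineOpens) {w : Γ(X, V.1)} (hw : E.ideal V = Ideal.span {w}) (j : ℕ) :
    Fitt.ideal Γ(X, V.1) Γ(G, V.1) j =
      Fitt.ideal Γ(X, V.1) (Γ(P, V.1) ⧸ FlatCA.powTorsion Γ(X, V.1) w Γ(P, V.1)) j := by
  haveI := QCoh.finite_of_isFT hP hft V.2
  exact (FittX.ideal_congr ((Submodule.quotEquivOfEq _ _ (ker_appLin hπ V hw).symm).trans
    ((appLin π V.1).quotKerEquivOfSurjective (appLin_surjective hE hP hπ V.2))) j).symm

theorem sheafIdeal_ge_eq_top (hE : BlowUp.IsEffCartierIdeal E) (hP : Coh.IsQCoh P) (hft : CohB1.IsFT P)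
    (hπ : IsTorsionQuot E π) {k : ℕ} (hk : Fitt.sheafIdeal P k = E) {j : ℕ} (hj : k ≤ j) :
    Fitt.sheafIdeal G j = ⊤ := by
  refine FittX.eq_of_cover fun x => ?_
  obtain ⟨V, hx, w, -, hw⟩ := hE x
  refine ⟨V, hx, ?_⟩
  haveI := QCoh.finite_of_isFT hP hft V.2
  rw [FittX.sheafIdeal_ideal (isQCoh_of_torsionQuot hE hP hπ) (isFT_of_torsionQuot hE hP hft hπ),
    fitting_sections_eq hE hP hft hπ V hw, Scheme.IdealSheafData.ideal_top]
  have h := FittStrict.fitting_eq_top (N := Γ(P, V.1)) (k := k) (a := w) (w := w) dvd_rfl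
    (by rw [← FittX.sheafIdeal_ideal hP hft, hk, hw])
  exact top_le_iff.1 (h.ge.trans (FittX.ideal_mono hj))

theorem sheafIdeal_lt_eq_bot (hE : BlowUp.IsEffCartierIdeal E) (hP : Coh.IsQCoh P) (hft : CohB1.IsFT P)
    (hπ : IsTorsionQuot E π) {j : ℕ}
    (hj : ∀ (W : X.affineOpens), Disjoint (E.support : Set X) (W.1 : Set X) → (Fitt.sheafIdeal P j).ideal W = ⊥) :
    Fitt.sheafIdeal G j = ⊥ := by
  refine FittX.eq_of_cover fun x => ?_
  obtain ⟨V, hx, w, hwn, hw⟩ := hE x
  refine ⟨V, hx, ?_⟩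
  haveI := QCoh.finite_of_isFT hP hft V.2
  rw [FittX.sheafIdeal_ideal (isQCoh_of_torsionQuot hE hP hπ) (isFT_of_torsionQuot hE hP hft hπ),
    fitting_sections_eq hE hP hft hπ V hw, Scheme.IdealSheafData.ideal_bot]
  refine FittStrict.fitting_eq_bot hwn fun a ha => ?_
  have hW : Disjoint (E.support : Set X) (X.basicOpen w : Set X) := by
    rw [Set.disjoint_left]
    intro p hp hpw
    rw [SetLike.mem_coe, Scheme.IdealSheafData.mem_support_iff_of_mem (U := V) (X.basicOpen_le w hpw),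
      hw, Scheme.mem_zeroLocus_iff] at hp
    exact hp w (Ideal.mem_span_singleton_self w) hpw
  have h1 := hj ⟨X.basicOpen w, V.2.basicOpen w⟩ hW
  rw [← (Fitt.sheafIdeal P j).map_ideal (U := ⟨X.basicOpen w, V.2.basicOpen w⟩) (V := V) (X.basicOpen_le w),
    FittX.sheafIdeal_ideal hP hft,
    Ideal.map_eq_bot_iff_le_ker] at h1
  have h2 : algebraMap Γ(X, V.1) Γ(X, X.basicOpen w) a = 0 := h1 ha
  haveI := V.2.isLocalization_basicOpen w
  obtain ⟨⟨_, n, rfl⟩, hn⟩ := (IsLocalization.map_eq_zero_iff (Submonoid.powers w) _ a).1 h2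
  exact ⟨n, hn⟩

theorem isFP_kernel_of_finLocFree (hP : CohB1.IsFP P) (hK : Coh.IsQCoh (kernel π)) [Epi π]
    (hG : FlatMod.IsFinLocFree G) : CohB1.IsFP (kernel π) := by
  have hPq := QCoh.isQCoh_of_isFP hP
  choose V hV n hx hn using QCoh.exists_affine_free hG
  refine QCoh.isFP_of_finitePresentation hK V (top_le_iff.1 fun x _ => Opens.mem_iSup.2 ⟨x, hx x⟩) hV
    fun x => ?_
  obtain ⟨e⟩ := QCoh.exists_linearEquiv_of_freeIso (hn x).some
  haveI : Module.Projective Γ(X, V x) Γ(G, V x) :=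
    Module.Projective.of_equiv ((QCoh.chartEquiv (hV x) G).trans e).symm
  haveI := QCoh.finitePresentation_of_isFP hP (hV x)
  haveI := QCoh.finitePresentation_of_isFP (QCoh.isFP_of_isFinLocFree hG) (hV x)
  let l := appLin π (V x)
  have hl : Function.Surjective l :=
    QCoh.app_surjective_of_epi hPq (QCoh.isQCoh_of_isFinLocFree hG) π (hV x)
  obtain ⟨σ, hσ⟩ := Module.projective_lifting_property l LinearMap.id hl
  let i := appLin (kernel.ι π) (V x)
  have hi : Function.Injective i := QCoh.app_injective (kernel.ι π) (V x)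
  have hrange : LinearMap.range i = LinearMap.ker l := le_antisymm
    (by rintro _ ⟨s, rfl⟩; exact (congr(($(kernel.condition π)).app (V x) s) : _))
    (fun y hy => QCoh.exists_kernel_lift π (V x) y hy)
  let pr : Γ(P, V x) →ₗ[Γ(X, V x)] LinearMap.range i :=
    LinearMap.codRestrict _ (LinearMap.id - σ ∘ₗ l) fun y => by
      rw [hrange, LinearMap.mem_ker, LinearMap.sub_apply, LinearMap.id_apply, LinearMap.comp_apply, map_sub,
        show l (σ (l y)) = l y from LinearMap.congr_fun hσ (l y), sub_self]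
  have hpr : Function.Surjective pr := fun y => ⟨y.1, Subtype.ext (by
    have hy : l y.1 = 0 := LinearMap.mem_ker.1 (hrange.le y.2)
    show y.1 - σ (l y.1) = y.1
    rw [hy, map_zero, sub_zero])⟩
  have hker : LinearMap.ker pr = LinearMap.range σ := by
    ext y
    refine ⟨fun hy => ⟨l y, ?_⟩, ?_⟩
    · exact (sub_eq_zero.1 (congrArg Subtype.val (LinearMap.mem_ker.1 hy))).symm
    · rintro ⟨z, rfl⟩
      refine LinearMap.mem_ker.2 (Subtype.ext ?_)
      show σ z - σ (l (σ z)) = 0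
      rw [show l (σ z) = z from LinearMap.congr_fun hσ z, sub_self]
  haveI : Module.FinitePresentation Γ(X, V x) (LinearMap.range i) :=
    Module.finitePresentation_of_surjective pr hpr (hker ▸ (by
      rw [LinearMap.range_eq_map]; exact Module.Finite.fg_top.map σ))
  exact Module.FinitePresentation.of_equiv (LinearEquiv.ofInjective i hi).symm

theorem isZero_kernel_restrict (hπ : IsTorsionQuot E π) (U : X.Opens)
    (hU : Disjoint (E.support : Set X) (U : Set X)) : IsZero ((kernel π).restrict U.ι) := by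
  have key : ∀ W : X.Opens, W ≤ U → ∀ s : Γ(kernel π, W), s = 0 := by
    intro W hW s
    refine QCoh.eq_zero_of_locally W s fun p hp => ?_
    obtain ⟨_, ⟨V, hV, rfl⟩, hpV, hVW⟩ := X.isBasis_affineOpens.exists_subset_of_mem_open hp W.2
    have hVW' : V ≤ W := hVW
    refine ⟨V, homOfLE hVW', hpV, QCoh.app_injective (kernel.ι π) V ?_⟩
    set t := (kernel.ι π).app V ((kernel π).presheaf.map (homOfLE hVW').op s) with ht
    obtain ⟨n, hn⟩ := (hπ.2 ⟨V, hV⟩ t).1 (congr(($(kernel.condition π)).app V _) : _)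
    have htop : E.ideal ⟨V, hV⟩ = ⊤ := by
      rw [← Ideal.span_eq (E.ideal ⟨V, hV⟩)]
      refine (IsAffineOpen.self_le_iSup_basicOpen_iff hV).1 fun q hq => ?_
      have hqE : q ∉ E.support := fun h => Set.disjoint_left.1 hU h (hW (hVW' hq))
      rw [Scheme.IdealSheafData.mem_support_iff_of_mem (U := ⟨V, hV⟩) hq, Scheme.mem_zeroLocus_iff] at hqE
      push_neg at hqE
      obtain ⟨g, hg, hqg⟩ := hqE
      exact Opens.mem_iSup.2 ⟨⟨g, hg⟩, hqg⟩
    rw [map_zero, ← one_smul Γ(X, V) t]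
    refine hn 1 ?_
    rw [Scheme.IdealSheafData.ideal_pow]
    show (1 : Γ(X, V)) ∈ (E.ideal ⟨V, hV⟩) ^ n
    rw [htop, ← Ideal.one_eq_top, one_pow, Ideal.one_eq_top]
    exact Submodule.mem_top
  rw [IsZero.iff_id_eq_zero]
  refine Scheme.Modules.hom_ext _ _ fun W => ?_
  ext s
  exact key _ (by rintro _ ⟨y, -, rfl⟩; exact y.2) _

/-- Fitting ideals of isomorphic modules. -/
theorem sheafIdeal_congr {M N : X.Modules} (e : M ≅ N) (hM : Coh.IsQCoh M) (hN : Coh.IsQCoh N)
    (hft : CohB1.IsFT M) (hft' : CohB1.IsFT N) (j : ℕ) : Fitt.sheafIdeal M j = Fitt.sheafIdeal N j := by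
  refine Scheme.IdealSheafData.ext (funext fun U => ?_)
  haveI := QCoh.finite_of_isFT hM hft U.2
  rw [FittX.sheafIdeal_ideal hM hft, FittX.sheafIdeal_ideal hN hft']
  exact FittX.ideal_congr (LinearEquiv.ofBijective (appLin e.hom U.1)
    ⟨Function.LeftInverse.injective (g := e.inv.app U.1) fun x => (congr(($(e.hom_inv_id)).app U.1 x) : _),
      Function.RightInverse.surjective (g := e.inv.app U.1) fun x => (congr(($(e.inv_hom_id)).app U.1 x) : _)⟩) j

theorem isFT_of_iso {M N : X.Modules} (e : M ≅ N) (hM : Coh.IsQCoh M) (hN : Coh.IsQCoh N)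
    (hft : CohB1.IsFT M) : CohB1.IsFT N :=
  (QCoh.isFT_iff hN).2 fun U =>
    haveI := QCoh.finite_of_isFT hM hft U.2
    Module.Finite.of_surjective (appLin e.hom U.1)
      (Function.RightInverse.surjective (g := e.inv.app U.1) fun x => (congr(($(e.inv_hom_id)).app U.1 x) : _))

/-- The Fitting ideals of a module free of rank `r` on an open. -/
theorem sheafIdeal_comap_ι {M : X.Modules} (hM : Coh.IsQCoh M) (hft : CohB1.IsFT M) (U : X.Opens) {r : ℕ}
    (hfree : FlatMod.IsFinLocFreeOfRank r (M.restrict U.ι)) :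
    (∀ j, j < r → (Fitt.sheafIdeal M j).comap U.ι = ⊥) ∧ (∀ j, r ≤ j → (Fitt.sheafIdeal M j).comap U.ι = ⊤) := by
  let e : M.restrict U.ι ≅ (Scheme.Modules.pullback U.ι).obj M :=
    (Scheme.Modules.restrictFunctorIsoPullback U.ι).app M
  have hr := QCoh.isQCoh_restrict U.ι hM
  have hp := QCoh.isQCoh_pullback U.ι hM
  have hfp := FittX.isFT_pullback U.ι hM hft
  have hfr := isFT_of_iso e.symm hp hr hfp
  have h := (FittX.isFinLocFreeOfRank_iff hr hfr r).1 hfree
  refine ⟨fun j hj => ?_, fun j hj => ?_⟩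
  · rw [FittX.sheafIdeal_comap U.ι hM hft, ← sheafIdeal_congr e hr hp hfr hfp, h.1 j hj]
  · rw [FittX.sheafIdeal_comap U.ι hM hft, ← sheafIdeal_congr e hr hp hfr hfp, h.2 j hj]

theorem ideal_eq_bot_of_comap_ι {I : X.IdealSheafData} {U : X.Opens} (h : I.comap U.ι = ⊥)
    (W : X.affineOpens) (hW : W.1 ≤ U) : I.ideal W = ⊥ := by
  have hr : W.1 ≤ U.ι.opensRange := by rwa [Scheme.Opens.opensRange_ι]
  have haff : IsAffineOpen (U.ι ⁻¹ᵁ W.1) := W.2.preimage_of_isOpenImmersion U.ι hr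
  have e1 := ModPairLib.ideal_comap I U.ι W ⟨_, haff⟩ le_rfl
  rw [h, Scheme.IdealSheafData.ideal_bot] at e1
  haveI : IsIso (U.ι.app W.1) := U.ι.isIso_app W.1 hr
  refine (Ideal.map_eq_bot_iff_of_injective ?_).1 e1.symm
  rw [Scheme.Hom.appLE_eq_app]
  exact (ConcreteCategory.bijective_of_isIso (U.ι.app W.1)).injective

theorem disjoint_of_comap_ι {I : X.IdealSheafData} {U : X.Opens} (h : I.comap U.ι = ⊤) :
    Disjoint (I.support : Set X) (U : Set X) := by
  rw [Set.disjoint_left]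
  intro p hp hpU
  have h1 : (⟨p, hpU⟩ : (U : Scheme.{u})) ∈ (I.comap U.ι).support := by
    rw [Scheme.IdealSheafData.support_comap]
    exact hp
  rw [h, Scheme.IdealSheafData.support_top] at h1
  exact h1

/-- An ideal vanishing on a schematically dense open vanishes. -/
theorem eq_bot_of_dense {I : X.IdealSheafData} {U : X.Opens} (hU : CInt.IsSchematicallyDense U)
    (h : I.comap U.ι = ⊥) : I = ⊥ := by
  refine Scheme.IdealSheafData.ext (funext fun V => ?_)
  rw [Scheme.IdealSheafData.ideal_bot]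
  show I.ideal V = ⊥
  rw [eq_bot_iff]
  intro a ha
  refine hU V.1 (Eq.trans ?_ (map_zero _).symm)
  refine TopCat.Presheaf.section_ext X.sheaf _ _ _ fun p hp => ?_
  obtain ⟨_, ⟨W, hW, rfl⟩, hpW, hWle⟩ := X.isBasis_affineOpens.exists_subset_of_mem_open hp (V.1 ⊓ U).2
  have hW' : IsAffineOpen W := hW
  have hle : W ≤ V.1 := fun q hq => (hWle hq).1
  have h0 : X.presheaf.map (homOfLE hle).op a = 0 := by
    have h1 : X.presheaf.map (homOfLE hle).op a ∈ I.ideal ⟨W, hW'⟩ :=
      I.map_ideal (U := ⟨W, hW'⟩) (V := V) hle ▸ Ideal.mem_map_of_mem _ ha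
    rw [ideal_eq_bot_of_comap_ι h ⟨W, hW'⟩ fun q hq => (hWle hq).2] at h1
    exact h1
  show X.presheaf.germ _ p hp _ = X.presheaf.germ _ p hp 0
  rw [map_zero, X.presheaf.germ_res_apply (homOfLE inf_le_left) p hp,
    ← X.presheaf.germ_res_apply (homOfLE hle) p hpW, h0, map_zero]

section BlowUp

variable {X' : Scheme.{u}} {b : X' ⟶ X} {I : X.IdealSheafData} {F : X.Modules} {H : X'.Modules}
  {ρ : (Scheme.Modules.pullback b).obj F ⟶ H}

/-- Vanishing on an open pulls back. -/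
theorem ideal_comap_eq_bot {J : X.IdealSheafData} {U : X.Opens} (h : J.comap U.ι = ⊥) (W : X'.affineOpens)
    (hW : W.1 ≤ b ⁻¹ᵁ U) : (J.comap b).ideal W = ⊥ := by
  refine ideal_eq_bot_of_comap_ι ?_ W hW
  rw [← Scheme.IdealSheafData.comap_comp, ← morphismRestrict_ι, Scheme.IdealSheafData.comap_comp, h,
    Scheme.IdealSheafData.comap_bot]

theorem le_preimage_of_disjoint {U : X.Opens} (hU : (U : Set X) = (I.support : Set X)ᶜ) (W : X'.Opens)
    (h : Disjoint ((I.comap b).support : Set X') (W : Set X')) : W ≤ b ⁻¹ᵁ U := by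
  intro p hp
  show b p ∈ (U : Set X)
  rw [hU]
  exact fun hm => Set.disjoint_right.1 h hp (by
    rw [Scheme.IdealSheafData.support_comap]
    exact hm)

theorem isFinLocFreeOfRank_strictTransform (hF : Coh.IsQCoh F) (hft : CohB1.IsFT F) {r : ℕ}
    (hb : BlowUp.IsEffCartierIdeal ((Fitt.sheafIdeal F r).comap b))
    (hρ : BlowUp.IsStrictTransform b (Fitt.sheafIdeal F r) F H ρ)
    (hlow : ∀ j < r, ∀ W : X'.affineOpens,
      Disjoint (((Fitt.sheafIdeal F r).comap b).support : Set X') (W.1 : Set X') →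
        ((Fitt.sheafIdeal F j).comap b).ideal W = ⊥) :
    FlatMod.IsFinLocFreeOfRank r H := by
  have hP := QCoh.isQCoh_pullback b hF
  have hPft := FittX.isFT_pullback b hF hft
  have hπ : IsTorsionQuot ((Fitt.sheafIdeal F r).comap b) ρ := hρ
  refine (FittX.isFinLocFreeOfRank_iff (isQCoh_of_torsionQuot hb hP hπ)
    (isFT_of_torsionQuot hb hP hPft hπ) r).2 ⟨fun j hj => ?_, fun j hj => ?_⟩
  · refine sheafIdeal_lt_eq_bot hb hP hPft hπ fun W hW => ?_
    rw [← FittX.sheafIdeal_comap b hF hft]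
    exact hlow j hj W hW
  · exact sheafIdeal_ge_eq_top hb hP hPft hπ (FittX.sheafIdeal_comap b hF hft r).symm hj

end BlowUp

end Groth.Agent.StrictTr16
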